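import Groth.Agent.H61.AffLift.Diff

set_option linter.style.haveILetI false
set_option linter.unusedSectionVars false
set_option autoImplicit false

/-!
# The class in `T¹(B₀/k, N)` of a `J`-compatible extension, relative to a base point
-/

namespace Groth.Agent.H61.AffLift

universe u

open ArtFun ArtFun.Art TensorProduct CategoryTheory Exal
open Groth.Agent.H56.ExalT1 Groth.Agent.H56.ExalPres

variable {k : Type u} [Field k] {C' C : Art k k} {p : C' ⟶ C}
  {B : Type u} [CommRing B] [Algebra C B] [Algebra C' B]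
  {B₀ : Type u} [CommRing B₀] [Algebra k B₀] {π : B →+* B₀}
  {N : Type u} [AddCommGroup N] [Module B₀ N] [Module B N]

/-- compatibility of an extension of `B` by `N` over `C'` with the action of `J = ker p`:
`j • e = incl (proj e • ι j)`. -/
def JCompat (ι : ↥(RingHom.ker p.toAlgHom) → N) (X : Ext C' B N) : Prop :=
  ∀ (j : ↥(RingHom.ker p.toAlgHom)) (e : X.E), (j : C') • e = X.incl (X.proj e • ι j)

/-- a lift of the polynomial ring into an extension. -/
def IsLift (X : Ext C' B N) (t : (P' C' B).toExtension.Ring →ₐ[C'] X.E) : Prop :=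
  ∀ r, X.proj (t r) = algebraMap (P' C' B).toExtension.Ring B r

namespace Setup

variable (S : Setup p π) (ι : ↥(RingHom.ker p.toAlgHom) → N)

include S in
/-- for a `J`-compatible extension the map on the kernel sends the constant `j` to `ι j`. -/
lemma del_cst {X : Ext C' B N} (hX : JCompat ι X) (t : (P' C' B).toExtension.Ring →ₐ[C'] X.E)
    (ht : IsLift X t) (j : C') (hj : j ∈ RingHom.ker p.toAlgHom) :
    del (P' C' B) X t ht ⟨cst C' B j, S.cst_mem_ker hj⟩ = ι ⟨j, hj⟩ := by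
  apply X.isExtension.incl_injective
  rw [incl_del]
  have h2 : cst C' B j = algebraMap C' (P' C' B).toExtension.Ring j := rfl
  change t (cst C' B j) = _
  rw [h2, AlgHom.commutes, Algebra.algebraMap_eq_smul_one]
  have h3 := hX ⟨j, hj⟩ 1
  rw [map_one, one_smul] at h3
  exact h3

include S in
/-- conversely, an extension whose map on the kernel sends constants `j` to `ι j` is
`J`-compatible. -/
lemma jCompat_of_del {X : Ext C' B N} (t : (P' C' B).toExtension.Ring →ₐ[C'] X.E)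
    (ht : IsLift X t)
    (h : ∀ (j : C') (hj : j ∈ RingHom.ker p.toAlgHom), X.incl (ι ⟨j, hj⟩) = t (cst C' B j)) :
    JCompat ι X := by
  intro j e
  have h1 := h j j.2
  have h2 : cst C' B (j : C') = algebraMap C' (P' C' B).toExtension.Ring j := rfl
  rw [h2, AlgHom.commutes] at h1
  rw [← X.isExtension.mul_incl, h1, Algebra.smul_def, mul_comm]

variable (hN : ∀ (b : B) (n : N), b • n = π b • n)
  {X₀ : Ext C' B N} (hX₀ : JCompat ι X₀) (t₀ : (P' C' B).toExtension.Ring →ₐ[C'] X₀.E)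
  (ht₀ : IsLift X₀ t₀)

include S hN hX₀ in
/-- the linear map on the conormal module of `R₀ → B₀` measuring the difference of `(X, t)` and
the base point `(X₀, t₀)`. -/
theorem exists_phi0 {X : Ext C' B N} (hX : JCompat ι X)
    (t : (P' C' B).toExtension.Ring →ₐ[C'] X.E) (ht : IsLift X t) :
    ∃ φ : (P₀ k π S.hπ).toExtension.Cotangent →ₗ[B₀] N,
      ∀ x, φ (S.κ x) = del (P' C' B) X t ht x - del (P' C' B) X₀ t₀ ht₀ x := by
  refine S.exists_factor hN (fun x => del (P' C' B) X t ht x - del (P' C' B) X₀ t₀ ht₀ x) ?_ ?_ ?_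
  · intro x y
    change del (P' C' B) X t ht (x + y) - del (P' C' B) X₀ t₀ ht₀ (x + y) = _
    rw [del_add, del_add]
    abel
  · intro r x
    change del (P' C' B) X t ht (r • x) - del (P' C' B) X₀ t₀ ht₀ (r • x) = _
    rw [del_smul, del_smul, smul_sub]
  · intro j hj
    change del (P' C' B) X t ht _ - del (P' C' B) X₀ t₀ ht₀ _ = 0
    rw [S.del_cst ι hX t ht j hj, S.del_cst ι hX₀ t₀ ht₀ j hj, sub_self]

/-- the linear map `φ⁰(X, t)`. -/
noncomputable def phi0 {X : Ext C' B N} (hX : JCompat ι X)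
    (t : (P' C' B).toExtension.Ring →ₐ[C'] X.E) (ht : IsLift X t) :
    (P₀ k π S.hπ).toExtension.Cotangent →ₗ[B₀] N :=
  (S.exists_phi0 ι hN hX₀ t₀ ht₀ hX t ht).choose

lemma phi0_κ {X : Ext C' B N} (hX : JCompat ι X)
    (t : (P' C' B).toExtension.Ring →ₐ[C'] X.E) (ht : IsLift X t)
    (x : (P' C' B).toExtension.ker) :
    S.phi0 ι hN hX₀ t₀ ht₀ hX t ht (S.κ x) =
      del (P' C' B) X t ht x - del (P' C' B) X₀ t₀ ht₀ x :=
  (S.exists_phi0 ι hN hX₀ t₀ ht₀ hX t ht).choose_spec x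

include S in
lemma cotangentComplex_κ (x : (P' C' B).toExtension.ker)
    (ψ₀ : (P₀ k π S.hπ).toExtension.CotangentSpace →ₗ[B₀] N) :
    ψ₀ ((P₀ k π S.hπ).toExtension.cotangentComplex (S.κ x)) =
      S.dval ψ₀ (x : (P' C' B).toExtension.Ring) := by
  unfold κ dval
  rw [Algebra.Extension.cotangentComplex_mk]
  rfl

/-- two lifts of one extension give maps differing by a coboundary. -/
theorem homToT1_phi0_lift_indep {X : Ext C' B N} (hX : JCompat ι X)
    (t t' : (P' C' B).toExtension.Ring →ₐ[C'] X.E) (ht : IsLift X t) (ht' : IsLift X t') :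
    CotT.homToT1 (P₀ k π S.hπ) N (S.phi0 ι hN hX₀ t₀ ht₀ hX t ht) =
      CotT.homToT1 (P₀ k π S.hπ) N (S.phi0 ι hN hX₀ t₀ ht₀ hX t' ht') := by
  rw [homToT1_eq_iff]
  have h0 : ∀ b : B, X.proj (t (var C' b) - t' (var C' b)) = 0 := fun b => by
    rw [map_sub, ht, ht', sub_self]
  let ψ₀ : (P₀ k π S.hπ).toExtension.CotangentSpace →ₗ[B₀] N :=
    (P₀ k π S.hπ).cotangentSpaceBasis.constr ℤ (fun b => X.kerLift _ (h0 b))
  have hψ : ∀ b : B, X.incl (ψ₀ ((P₀ k π S.hπ).cotangentSpaceBasis b)) =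
      t (var C' b) - t' (var C' b) := fun b => by
    rw [Module.Basis.constr_basis, X.incl_kerLift]
  refine ⟨ψ₀, ?_⟩
  apply S.factor_ext
  intro x
  rw [LinearMap.sub_apply, S.phi0_κ, S.phi0_κ, LinearMap.comp_apply, S.cotangentComplex_κ]
  apply X.isExtension.incl_injective
  rw [S.incl_dval hN X t t' ht ht' ψ₀ hψ, sub_sub_sub_cancel_right, map_sub, incl_del, incl_del]

/-- equivalent extensions (with any lifts) have the same class. -/
theorem homToT1_phi0_congr {X X' : Ext C' B N} (hX : JCompat ι X) (hX' : JCompat ι X')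
    (θ : X.Equiv X')
    (t : (P' C' B).toExtension.Ring →ₐ[C'] X.E) (ht : IsLift X t)
    (t' : (P' C' B).toExtension.Ring →ₐ[C'] X'.E) (ht' : IsLift X' t') :
    CotT.homToT1 (P₀ k π S.hπ) N (S.phi0 ι hN hX₀ t₀ ht₀ hX t ht) =
      CotT.homToT1 (P₀ k π S.hπ) N (S.phi0 ι hN hX₀ t₀ ht₀ hX' t' ht') := by
  let t'' : (P' C' B).toExtension.Ring →ₐ[C'] X'.E := (θ.toAlgEquiv : X.E →ₐ[C'] X'.E).comp t
  have ht'' : IsLift X' t'' := fun r => by
    change X'.proj (θ.toAlgEquiv (t r)) = _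
    rw [θ.proj_apply, ht]
  rw [← S.homToT1_phi0_lift_indep ι hN hX₀ t₀ ht₀ hX' t'' t' ht'' ht']
  congr 1
  apply S.factor_ext
  intro x
  rw [S.phi0_κ, S.phi0_κ]
  congr 1
  apply X'.isExtension.incl_injective
  rw [incl_del, ← θ.apply_incl, incl_del]
  rfl

/-- extensions with the same class are equivalent. -/
theorem equiv_of_homToT1_phi0_eq {X X' : Ext C' B N} (hX : JCompat ι X) (hX' : JCompat ι X')
    (t : (P' C' B).toExtension.Ring →ₐ[C'] X.E) (ht : IsLift X t)
    (t' : (P' C' B).toExtension.Ring →ₐ[C'] X'.E) (ht' : IsLift X' t')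
    (h : CotT.homToT1 (P₀ k π S.hπ) N (S.phi0 ι hN hX₀ t₀ ht₀ hX t ht) =
      CotT.homToT1 (P₀ k π S.hπ) N (S.phi0 ι hN hX₀ t₀ ht₀ hX' t' ht')) :
    Nonempty (X.Equiv X') := by
  rw [homToT1_eq_iff] at h
  obtain ⟨ψ₀, hψ₀⟩ := h
  obtain ⟨t'', ht'', hval⟩ := exists_lift_of_values (P' C' B) X'
    (fun b => t' (var C' b) + X'.incl (ψ₀ ((P₀ k π S.hπ).cotangentSpaceBasis b)))
    (fun b => by
      rw [map_add, ht', Groth.Agent.H29.ExalL.proj_incl, add_zero, S.algebraMap_var]
      rfl)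
  have hψ : ∀ b : B, X'.incl (ψ₀ ((P₀ k π S.hπ).cotangentSpaceBasis b)) =
      t'' (var C' b) - t' (var C' b) := fun b => by
    have := hval b
    change t'' (var C' b) = _ at this
    rw [this]
    ring
  refine equiv_of_lifts (P' C' B).toExtension.algebraMap_surjective X X' t t'' ht ht''
    (fun c hc => ?_)
  refine ⟨del (P' C' B) X t ht ⟨c, hc⟩, incl_del (P' C' B) X t ht ⟨c, hc⟩, ?_⟩
  have h1 := LinearMap.congr_fun hψ₀ (S.κ ⟨c, hc⟩)
  rw [LinearMap.sub_apply, S.phi0_κ, S.phi0_κ, LinearMap.comp_apply, S.cotangentComplex_κ,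
    sub_sub_sub_cancel_right] at h1
  have h2 := S.incl_dval hN X' t'' t' ht'' ht' ψ₀ hψ c
  rw [← h1, map_sub, incl_del] at h2
  change X'.incl (del (P' C' B) X t ht ⟨c, hc⟩) - t' c = t'' c - t' c at h2
  exact sub_left_injective h2

end Setup

end Groth.Agent.H61.AffLift
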