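import Groth.Agent.H61.AffLift.Factor
import Groth.Agent.H56.ExalT1

set_option linter.style.haveILetI false
set_option linter.unusedSectionVars false
set_option autoImplicit false

/-!
# Two lifts of `R'` into an extension differ by a derivation of `R₀`
-/

namespace Groth.Agent.H61.AffLift

universe u

open ArtFun ArtFun.Art TensorProduct CategoryTheory Exal

variable {k : Type u} [Field k] {C' C : Art k k} {p : C' ⟶ C}
  {B : Type u} [CommRing B] [Algebra C B] [Algebra C' B]
  {B₀ : Type u} [CommRing B₀] [Algebra k B₀] {π : B →+* B₀}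
  {N : Type u} [AddCommGroup N] [Module B₀ N] [Module B N]

namespace Setup

variable (S : Setup p π)
include S

section Diff

variable (hN : ∀ (b : B) (n : N), b • n = π b • n)
  (X : Ext C' B N) (t t' : (P' C' B).toExtension.Ring →ₐ[C'] X.E)
  (ht : ∀ r, X.proj (t r) = algebraMap (P' C' B).toExtension.Ring B r)
  (ht' : ∀ r, X.proj (t' r) = algebraMap (P' C' B).toExtension.Ring B r)
  (ψ₀ : (P₀ k π S.hπ).toExtension.CotangentSpace →ₗ[B₀] N)
  (hψ : ∀ b : B, X.incl (ψ₀ ((P₀ k π S.hπ).cotangentSpaceBasis b)) = t (var C' b) - t' (var C' b))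

/-- the value of `ψ₀` on the differential of the reduction. -/
noncomputable def dval (r : (P' C' B).toExtension.Ring) : N :=
  ψ₀ ((1 : B₀) ⊗ₜ[(P₀ k π S.hπ).toExtension.Ring]
    KaehlerDifferential.D k (P₀ k π S.hπ).toExtension.Ring (red k π S.hπ r))

lemma dval_add (r r' : (P' C' B).toExtension.Ring) :
    S.dval ψ₀ (r + r') = S.dval ψ₀ r + S.dval ψ₀ r' := by
  unfold dval
  rw [map_add, map_add, TensorProduct.tmul_add, map_add]

include hN in
lemma dval_mul (r r' : (P' C' B).toExtension.Ring) :
    S.dval ψ₀ (r * r') = algebraMap (P' C' B).toExtension.Ring B r • S.dval ψ₀ r' +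
      algebraMap (P' C' B).toExtension.Ring B r' • S.dval ψ₀ r := by
  unfold dval
  rw [map_mul, Derivation.leibniz, TensorProduct.tmul_add, TensorProduct.tmul_smul,
    TensorProduct.tmul_smul, ← algebraMap_smul B₀ (red k π S.hπ r),
    ← algebraMap_smul B₀ (red k π S.hπ r'), map_add, map_smul, map_smul,
    S.algebraMap_red, S.algebraMap_red, hN, hN]

lemma dval_cst (c : C') : S.dval ψ₀ (cst C' B c) = 0 := by
  unfold dval
  rw [red_cst]
  have h : (MvPolynomial.C (C'.res c) : MvPolynomial B k) =
      algebraMap k (P₀ k π S.hπ).toExtension.Ring (C'.res c) := rfl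
  rw [h, Derivation.map_algebraMap, TensorProduct.tmul_zero, map_zero]

lemma dval_var (b : B) : S.dval ψ₀ (var C' b) = ψ₀ ((P₀ k π S.hπ).cotangentSpaceBasis b) := by
  unfold dval
  rw [red_var, Algebra.Generators.cotangentSpaceBasis_apply]
  rfl

omit hψ in
lemma incl_dval_cst (c : C') :
    X.incl (S.dval ψ₀ (cst C' B c)) = t (cst C' B c) - t' (cst C' B c) := by
  rw [S.dval_cst ψ₀ c, map_zero]
  have h2 : cst C' B c = algebraMap C' (P' C' B).toExtension.Ring c := rfl
  rw [h2, AlgHom.commutes, AlgHom.commutes, sub_self]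

omit hψ in
lemma incl_dval_add (q q' : (P' C' B).toExtension.Ring)
    (hq : X.incl (S.dval ψ₀ q) = t q - t' q) (hq' : X.incl (S.dval ψ₀ q') = t q' - t' q') :
    X.incl (S.dval ψ₀ (q + q')) = t (q + q') - t' (q + q') := by
  rw [S.dval_add, map_add, hq, hq', map_add, map_add]
  ring

omit hψ in
include hN ht ht' in
lemma incl_dval_mul (q q' : (P' C' B).toExtension.Ring)
    (hq : X.incl (S.dval ψ₀ q) = t q - t' q) (hq' : X.incl (S.dval ψ₀ q') = t q' - t' q') :
    X.incl (S.dval ψ₀ (q * q')) = t (q * q') - t' (q * q') := by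
  rw [S.dval_mul hN ψ₀ q q', map_add, ← ht q, ← ht' q', ← X.isExtension.mul_incl,
    ← X.isExtension.mul_incl, hq', hq, map_mul, map_mul]
  ring

include hN ht ht' hψ in
/-- the difference of two lifts is given by the derivation attached to `ψ₀`. -/
theorem incl_dval (r : (P' C' B).toExtension.Ring) : X.incl (S.dval ψ₀ r) = t r - t' r := by
  refine MvPolynomial.induction_on (motive := fun r : MvPolynomial B C' =>
    X.incl (S.dval ψ₀ (r : (P' C' B).toExtension.Ring)) = t r - t' r) r ?_ ?_ ?_
  · intro c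
    exact S.incl_dval_cst X t t' ψ₀ c
  · intro q q' hq hq'
    exact S.incl_dval_add X t t' ψ₀ q q' hq hq'
  · intro q b hq
    have h2 := hψ b
    rw [← S.dval_var ψ₀ b] at h2
    exact S.incl_dval_mul hN X t t' ht ht' ψ₀ q (var C' b) hq h2

end Diff

end Setup

end Groth.Agent.H61.AffLift
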