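import Groth.Agent.H61.AffLift.Pres

set_option linter.style.haveILetI false
set_option linter.unusedSectionVars false
set_option autoImplicit false

/-!
# Factoring semilinear maps on the kernel of `R' → B` through the conormal module of `R₀ → B₀`
-/

namespace Groth.Agent.H61.AffLift

universe u

open ArtFun ArtFun.Art TensorProduct CategoryTheory

variable {k : Type u} [Field k] {C' C : Art k k} {p : C' ⟶ C}
  {B : Type u} [CommRing B] [Algebra C B] [Algebra C' B]
  {B₀ : Type u} [CommRing B₀] [Algebra k B₀] {π : B →+* B₀}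
  {N : Type u} [AddCommGroup N] [Module B₀ N] [Module B N]

namespace Setup

variable (S : Setup p π)
include S

lemma cst_mem_ker {j : C'} (hj : j ∈ RingHom.ker p.toAlgHom) :
    cst C' B j ∈ (P' C' B).toExtension.ker := by
  change algebraMap (P' C' B).toExtension.Ring B (cst C' B j) = 0
  rw [S.algebraMap_cst, S.algebraMap_eq_zero_of_mem hj]

lemma κ_cst {j : C'} (hj : j ∈ RingHom.ker p.toAlgHom) :
    S.κ ⟨cst C' B j, S.cst_mem_ker hj⟩ = 0 := by
  unfold κ
  have h : S.redK ⟨cst C' B j, S.cst_mem_ker hj⟩ = 0 := by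
    apply Subtype.ext
    rw [S.redK_coe]
    change red k π S.hπ (cst C' B j) = 0
    rw [red_cst, (mem_maximalIdeal_iff C' j).mp (S.ker_le_maximalIdeal hj), map_zero]
    rfl
  rw [h, map_zero]

/-- a semilinear map on the kernel of `R' → B` killing the constants of `J` factors through the
conormal module of `R₀ → B₀`. -/
theorem exists_factor (hN : ∀ (b : B) (n : N), b • n = π b • n)
    (η : (P' C' B).toExtension.ker → N)
    (hadd : ∀ x y, η (x + y) = η x + η y)
    (hsmul : ∀ (r : (P' C' B).toExtension.Ring) (x : (P' C' B).toExtension.ker),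
      η (r • x) = algebraMap (P' C' B).toExtension.Ring B r • η x)
    (hJ : ∀ (j : C') (hj : j ∈ RingHom.ker p.toAlgHom), η ⟨cst C' B j, S.cst_mem_ker hj⟩ = 0) :
    ∃ φ : (P₀ k π S.hπ).toExtension.Cotangent →ₗ[B₀] N, ∀ x, φ (S.κ x) = η x := by
  have h0 : η 0 = 0 := by
    have := hadd 0 0
    rw [add_zero] at this
    exact left_eq_add.mp this
  let Z : Ideal (P' C' B).toExtension.Ring :=
    { carrier := {g | ∃ h : g ∈ (P' C' B).toExtension.ker, η ⟨g, h⟩ = 0}
      zero_mem' := ⟨Ideal.zero_mem _, h0⟩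
      add_mem' := by
        rintro a b ⟨ha, ha'⟩ ⟨hb, hb'⟩
        refine ⟨Ideal.add_mem _ ha hb, ?_⟩
        have := hadd ⟨a, ha⟩ ⟨b, hb⟩
        rw [ha', hb', add_zero] at this
        exact this
      smul_mem' := by
        rintro r a ⟨ha, ha'⟩
        refine ⟨Ideal.mul_mem_left _ r ha, ?_⟩
        have := hsmul r ⟨a, ha⟩
        rw [ha', smul_zero] at this
        exact this }
  have hZ : S.KK ≤ Z := by
    unfold KK
    refine sup_le ?_ (sup_le ?_ ?_)
    · rw [Ideal.mul_le]
      intro a ha b hb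
      refine ⟨Ideal.mul_mem_left _ a hb, ?_⟩
      have h1 := hsmul a ⟨b, hb⟩
      have h2 : algebraMap (P' C' B).toExtension.Ring B a = 0 := ha
      rw [h2, zero_smul] at h1
      exact h1
    · rw [Ideal.mul_le]
      intro a ha b hb
      refine ⟨Ideal.mul_mem_left _ a hb, ?_⟩
      have h1 := hsmul a ⟨b, hb⟩
      have h2 : algebraMap (P' C' B).toExtension.Ring B a ∈ RingHom.ker π := by
        rw [S.ker_π_eq_map, ker_red]
        exact Ideal.mem_map_of_mem _ ha
      rw [hN, (RingHom.mem_ker).mp h2, zero_smul] at h1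
      exact h1
    · rw [Ideal.map_le_iff_le_comap]
      intro j hj
      exact ⟨S.cst_mem_ker hj, hJ j hj⟩
  have hwd : ∀ x y : (P' C' B).toExtension.ker, S.κ x = S.κ y → η x = η y := by
    intro x y hxy
    obtain ⟨h1, h2⟩ := hZ (S.sub_mem_of_κ_eq x y hxy)
    have h3 : x = y + ⟨(x : (P' C' B).toExtension.Ring) - (y : (P' C' B).toExtension.Ring), h1⟩ := by
      apply Subtype.ext
      change (x : (P' C' B).toExtension.Ring) = (y : (P' C' B).toExtension.Ring) +
        ((x : (P' C' B).toExtension.Ring) - (y : (P' C' B).toExtension.Ring))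
      ring
    rw [h3, hadd, h2, add_zero]
  let φFun : (P₀ k π S.hπ).toExtension.Cotangent → N := fun c => η (S.κ_surjective c).choose
  have hφ : ∀ x, φFun (S.κ x) = η x := fun x => hwd _ _ (S.κ_surjective (S.κ x)).choose_spec
  refine ⟨{ toFun := φFun, map_add' := ?_, map_smul' := ?_ }, hφ⟩
  · intro c c'
    obtain ⟨x, rfl⟩ := S.κ_surjective c
    obtain ⟨y, rfl⟩ := S.κ_surjective c'
    rw [← S.κ_add, hφ, hφ, hφ, hadd]
  · intro b₀ c
    obtain ⟨x, rfl⟩ := S.κ_surjective c
    obtain ⟨b, rfl⟩ := S.hπ b₀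
    obtain ⟨r, rfl⟩ := (P' C' B).toExtension.algebraMap_surjective b
    rw [RingHom.id_apply, ← S.κ_smul, hφ, hφ, hsmul, hN]

/-- conversely every linear map on the conormal module gives such a semilinear map. -/
lemma factor_smul (hN : ∀ (b : B) (n : N), b • n = π b • n)
    (φ : (P₀ k π S.hπ).toExtension.Cotangent →ₗ[B₀] N)
    (r : (P' C' B).toExtension.Ring) (x : (P' C' B).toExtension.ker) :
    φ (S.κ (r • x)) = algebraMap (P' C' B).toExtension.Ring B r • φ (S.κ x) := by
  rw [S.κ_smul, map_smul, hN]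

lemma factor_ext {φ φ' : (P₀ k π S.hπ).toExtension.Cotangent →ₗ[B₀] N}
    (h : ∀ x, φ (S.κ x) = φ' (S.κ x)) : φ = φ' := by
  ext c
  obtain ⟨x, rfl⟩ := S.κ_surjective c
  exact h x

end Setup

end Groth.Agent.H61.AffLift
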