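import Mathlib

set_option linter.style.haveILetI false
set_option linter.unusedSectionVars false
set_option autoImplicit false

/-! Kernel of the map on global sections induced by `Spec.map f`. -/

open AlgebraicGeometry CategoryTheory CategoryTheory.Limits Opposite TopologicalSpace

namespace Groth.Agent.H61.AffLift

universe u

lemma ΓSpecIso_hom_inv_apply (R : CommRingCat.{u}) (z : Γ(Spec R, ⊤)) :
    (Scheme.ΓSpecIso R).inv.hom ((Scheme.ΓSpecIso R).hom.hom z) = z := by
  have := ConcreteCategory.congr_hom (Scheme.ΓSpecIso R).hom_inv_id z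
  simp only [CommRingCat.comp_apply] at this
  exact this

lemma ΓSpecIso_inv_hom_apply (R : CommRingCat.{u}) (a : R) :
    (Scheme.ΓSpecIso R).hom.hom ((Scheme.ΓSpecIso R).inv.hom a) = a := by
  have := ConcreteCategory.congr_hom (Scheme.ΓSpecIso R).inv_hom_id a
  simp only [CommRingCat.comp_apply] at this
  exact this

/-- kernel of `Γ(Spec R) → Γ(Spec S)` induced by `f : R ⟶ S`. -/
lemma ker_SpecMap_appTop {R S : CommRingCat.{u}} (f : R ⟶ S) :
    RingHom.ker (Spec.map f).appTop.hom =
      (RingHom.ker f.hom).map (Scheme.ΓSpecIso R).inv.hom := by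
  have hnat := Scheme.ΓSpecIso_naturality f
  ext z
  rw [RingHom.mem_ker]
  have hinj : Function.Injective (Scheme.ΓSpecIso S).hom.hom :=
    (ConcreteCategory.bijective_of_isIso (Scheme.ΓSpecIso S).hom).1
  have h1 : (Scheme.ΓSpecIso S).hom.hom ((Spec.map f).appTop.hom z) =
      f.hom ((Scheme.ΓSpecIso R).hom.hom z) := by
    have := ConcreteCategory.congr_hom hnat z
    simp only [CommRingCat.comp_apply] at this
    exact this
  have h2 : (Spec.map f).appTop.hom z = 0 ↔ f.hom ((Scheme.ΓSpecIso R).hom.hom z) = 0 := by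
    rw [← h1]
    constructor
    · intro h; rw [h, map_zero]
    · intro h; exact hinj (h.trans (map_zero _).symm)
  rw [h2, ← RingHom.mem_ker]
  constructor
  · intro h
    have := Ideal.mem_map_of_mem (Scheme.ΓSpecIso R).inv.hom h
    rwa [ΓSpecIso_hom_inv_apply] at this
  · intro h
    have h3 : (RingHom.ker f.hom).map (Scheme.ΓSpecIso R).inv.hom ≤
        (RingHom.ker f.hom).comap (Scheme.ΓSpecIso R).hom.hom := by
      rw [Ideal.map_le_iff_le_comap]
      intro a ha
      rw [Ideal.mem_comap, Ideal.mem_comap, ΓSpecIso_inv_hom_apply]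
      exact ha
    exact h3 h

/-- global sections of `toSpecΓ ≫ Spec.map f`. -/
lemma appTop_toSpecΓ_SpecMap {Y : Scheme.{u}} {R : CommRingCat.{u}} (f : R ⟶ Γ(Y, ⊤)) :
    (Y.toSpecΓ ≫ Spec.map f).appTop = (Scheme.ΓSpecIso R).hom ≫ f := by
  rw [Scheme.Hom.comp_appTop, Scheme.toSpecΓ_appTop, Scheme.ΓSpecIso_naturality]

end Groth.Agent.H61.AffLift
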