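import Groth.Agent.H61.AffLift.SchDict

set_option linter.style.haveILetI false
set_option linter.unusedSectionVars false
set_option autoImplicit false

/-!
# From a flat `J`-compatible extension to an extension of the deformation
-/

open AlgebraicGeometry CategoryTheory CategoryTheory.Limits Opposite TopologicalSpace

namespace Groth.Agent.H61.AffLift

universe u

open ArtFun ArtFun.Art TensorProduct Exal Groth.Agent.H61.DefAlg Groth.Agent.H61.AffThick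

variable {k : Type u} [Field k] {B₀ : Type u} [CommRing B₀] [Algebra k B₀] {C' C : Art k k}
variable (p : C' ⟶ C) (𝒳 : DefSch (XB k B₀) (xB k B₀) C)

lemma toSpecΓ_Spec (R : CommRingCat.{u}) :
    (Spec R).toSpecΓ = Spec.map (Scheme.ΓSpecIso R).hom := by
  have h1 := toSpecΓ_SpecMap_ΓSpecIso_inv R
  have h2 : Spec.map (Scheme.ΓSpecIso R).inv ≫ Spec.map (Scheme.ΓSpecIso R).hom = 𝟙 _ := by
    rw [← Spec.map_comp, Iso.hom_inv_id, Spec.map_id]
  calc (Spec R).toSpecΓ = (Spec R).toSpecΓ ≫ 𝟙 _ := (Category.comp_id _).symm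
    _ = (Spec R).toSpecΓ ≫ Spec.map (Scheme.ΓSpecIso R).inv ≫ Spec.map (Scheme.ΓSpecIso R).hom := by
        rw [h2]
    _ = Spec.map (Scheme.ΓSpecIso R).hom := by rw [← Category.assoc, h1, Category.id_comp]

lemma eq_toSpecΓ_SpecMap {Y : Scheme.{u}} {R : CommRingCat.{u}} (f : Y ⟶ Spec R) :
    f = Y.toSpecΓ ≫ Spec.map ((Scheme.ΓSpecIso R).inv ≫ f.appTop) := by
  rw [Spec.map_comp, ← Scheme.toSpecΓ_naturality_assoc, toSpecΓ_SpecMap_ΓSpecIso_inv,
    Category.comp_id]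

variable {p 𝒳}

theorem exists_lift_of_ext (hp : IsSemismallExt p)
    (X : Ext C' (BR p 𝒳) (B₀ ⊗[k] ↥(RingHom.ker p.toAlgHom))) (hX : JCompat (iotaJ p B₀) X)
    [Module.Flat C' X.E] :
    ∃ (a : Lifts p 𝒳) (θ : GRing a.1 ≃ₐ[C'] X.E), ∀ e, X.proj (θ e) = qA p 𝒳 a e := by
  have S := setup p 𝒳 hp
  let φ' : C' →+* X.E := algebraMap C' X.E
  let π' : X.E →+* B₀ := (πR p 𝒳).comp (X.proj : X.E →+* BR p 𝒳)
  have hφ : φ'.Flat := (RingHom.flat_algebraMap_iff).mpr inferInstance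
  have hπ : Function.Surjective π' := S.hπ.comp X.isExtension.proj_surjective
  have hcomp : ∀ c, π' (φ' c) = algebraMap k B₀ (C'.res c) := by
    intro c
    change πR p 𝒳 (X.proj (algebraMap C' X.E c)) = _
    rw [AlgHom.commutes, S.hcomp]
  have hker : RingHom.ker π' = (IsLocalRing.maximalIdeal C').map φ' :=
    S.ker_πproj (BR.smul_def p 𝒳) hX
  let 𝒳' : DefSch (XB k B₀) (xB k B₀) C' := build φ' π' hφ hπ hcomp hker
  let projC : CommRingCat.of X.E ⟶ Γ(𝒳.total, ⊤) :=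
    CommRingCat.ofHom (X.proj : X.E →+* BR p 𝒳)
  let j₀ : 𝒳.total ⟶ 𝒳'.total := 𝒳.total.toSpecΓ ≫ Spec.map projC
  have cond : j₀ ≫ 𝒳'.f = 𝒳.f ≫ specMap p := by
    have h1 : CommRingCat.ofHom φ' ≫ projC =
        CommRingCat.ofHom p.toAlgHom.toRingHom ≫ (Scheme.ΓSpecIso (CommRingCat.of C)).inv ≫
          𝒳.f.appTop := by
      ext c
      exact X.proj.commutes c
    change (𝒳.total.toSpecΓ ≫ Spec.map projC) ≫ Spec.map (CommRingCat.ofHom φ') =
      𝒳.f ≫ Spec.map (CommRingCat.ofHom p.toAlgHom.toRingHom)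
    conv_rhs => rw [eq_toSpecΓ_SpecMap 𝒳.f]
    rw [Category.assoc, Category.assoc, ← Spec.map_comp, ← Spec.map_comp, h1]
  let u : 𝒳.total ⟶ pullback 𝒳'.f (specMap p) := pullback.lift j₀ 𝒳.f cond
  have hu_fst : u ≫ pullback.fst 𝒳'.f (specMap p) = j₀ := pullback.lift_fst _ _ _
  have hu_f : u ≫ (𝒳'.baseChange p).f = 𝒳.f := pullback.lift_snd _ _ _
  have hij : 𝒳.i ≫ j₀ = 𝒳'.i := by
    have h1 : projC ≫ 𝒳.i.appTop ≫ (Scheme.ΓSpecIso (CommRingCat.of B₀)).hom =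
        CommRingCat.ofHom π' := by
      ext e
      rfl
    change 𝒳.i ≫ 𝒳.total.toSpecΓ ≫ Spec.map projC = Spec.map (CommRingCat.ofHom π')
    rw [Scheme.toSpecΓ_naturality_assoc, ← h1, Spec.map_comp, Spec.map_comp, toSpecΓ_Spec,
      ← Spec.map_comp, ← Spec.map_comp, ← Spec.map_comp, ← Spec.map_comp]
    congr 1
  have hu_i : 𝒳.i ≫ u = (𝒳'.baseChange p).i := by
    apply pullback.hom_ext
    · rw [Category.assoc, hu_fst, hij]
      exact (DefSch.baseChange_i_fst 𝒳' p).symm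
    · have h1 : (𝒳.i ≫ u) ≫ pullback.snd 𝒳'.f (specMap p) = 𝒳.i ≫ 𝒳.f := by
        rw [Category.assoc]
        congr 1
      rw [h1, DefSch.i_f]
      exact (DefSch.baseChange_i_f 𝒳' p).symm
  haveI : IsIso u := DefSch.isIso_of_hom (ξ := 𝒳) (ξ' := 𝒳'.baseChange p) u hu_f hu_i
  let α₀ : 𝒳.Iso (𝒳'.baseChange p) := ⟨asIso u, hu_f, hu_i⟩
  let a : Lifts p 𝒳 := ⟨𝒳', α₀.symm⟩
  have hjA : jA p 𝒳 a = j₀ := hu_fst
  let θ : GRing a.1 ≃ₐ[C'] X.E :=
    AlgEquiv.ofRingEquiv (f := buildEquiv φ' π' hφ hπ hcomp hker)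
      (buildEquiv_algebraMap φ' π' hφ hπ hcomp hker)
  refine ⟨a, θ, fun e => ?_⟩
  rw [qA_apply]
  have h3 : (jA p 𝒳 a).appTop.hom e =
      projC.hom ((Scheme.ΓSpecIso (CommRingCat.of X.E)).hom.hom e) := by
    have h4 : (jA p 𝒳 a).appTop = (Scheme.ΓSpecIso (CommRingCat.of X.E)).hom ≫ projC := by
      rw [hjA]
      exact appTop_toSpecΓ_SpecMap projC
    rw [h4]
    rfl
  rw [h3]
  rfl

end Groth.Agent.H61.AffLift
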