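import Groth.Agent.H61.AffLift.SchIso
import Groth.Agent.H61.AffLift.SchBuild

set_option linter.style.haveILetI false
set_option linter.unusedSectionVars false
set_option autoImplicit false

/-!
# Extensions of an affine deformation along a semismall extension are classified by `T¹`
-/

open AlgebraicGeometry CategoryTheory CategoryTheory.Limits Opposite TopologicalSpace

namespace Groth.Agent.H61.AffLift

universe u

open ArtFun ArtFun.Art TensorProduct Exal Groth.Agent.H61.DefAlg Groth.Agent.H61.AffThick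
open Groth.Agent.H56.ExalT1

variable {k : Type u} [Field k] {B₀ : Type u} [CommRing B₀] [Algebra k B₀] {C' C : Art k k}
variable (p : C' ⟶ C) (𝒳 : DefSch (XB k B₀) (xB k B₀) C)

/-- the extension of `Γ(𝒳)` by `B₀ ⊗ J` attached to an extension of `𝒳`. -/
noncomputable def extA (hp : IsSemismallExt p) (a : Lifts p 𝒳) :
    Ext C' (BR p 𝒳) (B₀ ⊗[k] ↥(RingHom.ker p.toAlgHom)) :=
  (liftData p 𝒳 hp a).toExt (setup p 𝒳 hp) (BR.smul_def p 𝒳)

lemma extA_jCompat (hp : IsSemismallExt p) (a : Lifts p 𝒳) :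
    JCompat (iotaJ p B₀) (extA p 𝒳 hp a) :=
  (liftData p 𝒳 hp a).jCompat (setup p 𝒳 hp) (BR.smul_def p 𝒳)

instance (hp : IsSemismallExt p) (a : Lifts p 𝒳) : Module.Flat C' (extA p 𝒳 hp a).E :=
  inferInstanceAs (Module.Flat C' (GRing a.1))

theorem main (hp : IsSemismallExt p)
    (hne : ∃ 𝒳' : DefSch (XB k B₀) (xB k B₀) C', Nonempty ((𝒳'.baseChange p).Iso 𝒳)) :
    Nonempty (Quot (Rel p 𝒳) ≃
      CotT.T1 (CotT.canon k B₀) (B₀ ⊗[k] ↥(RingHom.ker p.toAlgHom))) := by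
  have S := setup p 𝒳 hp
  have hN := BR.smul_def p 𝒳
  obtain ⟨𝒳'₀, ⟨α₀⟩⟩ := hne
  let a₀ : Lifts p 𝒳 := ⟨𝒳'₀, α₀⟩
  have hX₀ := extA_jCompat p 𝒳 hp a₀
  obtain ⟨t₀, ht₀⟩ := exists_lift (P' C' (BR p 𝒳)) (extA p 𝒳 hp a₀)
  choose tA htA using fun a : Lifts p 𝒳 => exists_lift (P' C' (BR p 𝒳)) (extA p 𝒳 hp a)
  let Φ : Lifts p 𝒳 → CotT.T1 (P₀ k (πR p 𝒳) S.hπ) (B₀ ⊗[k] ↥(RingHom.ker p.toAlgHom)) :=
    fun a => CotT.homToT1 (P₀ k (πR p 𝒳) S.hπ) (B₀ ⊗[k] ↥(RingHom.ker p.toAlgHom))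
      (S.phi0 (iotaJ p B₀) hN hX₀ t₀ ht₀ (extA_jCompat p 𝒳 hp a) (tA a) (htA a))
  have hΦ : ∀ a b, Rel p 𝒳 a b → Φ a = Φ b := by
    intro a b hab
    obtain ⟨θ, hθ⟩ := exists_algEquiv_of_rel a b hab
    obtain ⟨E⟩ := S.equiv_of_algEquiv hN (extA_jCompat p 𝒳 hp a) (extA_jCompat p 𝒳 hp b) θ hθ
    exact S.homToT1_phi0_congr (iotaJ p B₀) hN hX₀ t₀ ht₀ (extA_jCompat p 𝒳 hp a)
      (extA_jCompat p 𝒳 hp b) E (tA a) (htA a) (tA b) (htA b)
  let f : Quot (Rel p 𝒳) →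
      CotT.T1 (P₀ k (πR p 𝒳) S.hπ) (B₀ ⊗[k] ↥(RingHom.ker p.toAlgHom)) := Quot.lift Φ hΦ
  have hf : Function.Bijective f := by
    constructor
    · intro x y
      induction x using Quot.ind with
      | _ a =>
        induction y using Quot.ind with
        | _ b =>
          intro h
          have h' : Φ a = Φ b := h
          obtain ⟨E⟩ := S.equiv_of_homToT1_phi0_eq (iotaJ p B₀) hN hX₀ t₀ ht₀
            (extA_jCompat p 𝒳 hp a) (extA_jCompat p 𝒳 hp b) (tA a) (htA a) (tA b) (htA b) h'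
          exact Quot.sound (rel_of_algEquiv a b E.toAlgEquiv E.proj_apply)
    · intro τ
      obtain ⟨φ, rfl⟩ := (Groth.Agent.S12289.result k B₀ _ _ (P₀ k (πR p 𝒳) S.hπ)
        (B₀ ⊗[k] ↥(RingHom.ker p.toAlgHom))).2.2 τ
      obtain ⟨X, hX, t, ht, hphi, hflat⟩ :=
        S.exists_ext_of_phi (iotaJ p B₀) hN hX₀ t₀ ht₀ φ
      obtain ⟨a, θ, hθ⟩ := exists_lift_of_ext hp X hX
      obtain ⟨E⟩ := S.equiv_of_algEquiv hN (extA_jCompat p 𝒳 hp a) hX θ hθ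
      refine ⟨Quot.mk _ a, ?_⟩
      change Φ a = _
      rw [← hphi]
      exact S.homToT1_phi0_congr (iotaJ p B₀) hN hX₀ t₀ ht₀ (extA_jCompat p 𝒳 hp a) hX E
        (tA a) (htA a) t ht
  obtain ⟨e₂, -⟩ := exists_equiv (P₀ k (πR p 𝒳) S.hπ)
    (M := B₀ ⊗[k] ↥(RingHom.ker p.toAlgHom))
  obtain ⟨e₃, -⟩ := exists_equiv (CotT.canon k B₀) (M := B₀ ⊗[k] ↥(RingHom.ker p.toAlgHom))
  exact ⟨(Equiv.ofBijective f hf).trans (e₂.symm.trans e₃)⟩

end Groth.Agent.H61.AffLift
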