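import Groth.Agent.H61.AffLift.RingExt

set_option linter.style.haveILetI false
set_option linter.unusedSectionVars false
set_option autoImplicit false

/-!
# `J`-compatible extensions of `B` by `B₀ ⊗ J`: kernels and equivalences
-/

namespace Groth.Agent.H61.AffLift

universe u

open ArtFun ArtFun.Art TensorProduct CategoryTheory Exal

variable {k : Type u} [Field k] {C' C : Art k k} {p : C' ⟶ C}
  {B : Type u} [CommRing B] [Algebra C B] [Algebra C' B]
  {B₀ : Type u} [CommRing B₀] [Algebra k B₀] {π : B →+* B₀}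
  [Module B (B₀ ⊗[k] ↥(RingHom.ker p.toAlgHom))]

namespace Setup

variable (S : Setup p π)
  (hN : ∀ (b : B) (n : B₀ ⊗[k] ↥(RingHom.ker p.toAlgHom)), b • n = π b • n)

include S hN

/-- in a `J`-compatible extension, `incl (π (proj e) ⊗ j) = j • e`. -/
lemma incl_tmul {X : Ext C' B (B₀ ⊗[k] ↥(RingHom.ker p.toAlgHom))} (hX : JCompat (iotaJ p B₀) X)
    (e : X.E) (j : ↥(RingHom.ker p.toAlgHom)) :
    X.incl (π (X.proj e) ⊗ₜ[k] j) = (j : C') • e := by
  rw [hX j e]
  congr 1
  change _ = X.proj e • ((1 : B₀) ⊗ₜ[k] j)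
  rw [hN, TensorProduct.smul_tmul', smul_eq_mul, mul_one]

/-- an algebra isomorphism of the middle rings compatible with the projections is an equivalence of
`J`-compatible extensions. -/
theorem equiv_of_algEquiv {X X' : Ext C' B (B₀ ⊗[k] ↥(RingHom.ker p.toAlgHom))}
    (hX : JCompat (iotaJ p B₀) X) (hX' : JCompat (iotaJ p B₀) X')
    (θ : X.E ≃ₐ[C'] X'.E) (hθ : ∀ e, X'.proj (θ e) = X.proj e) : Nonempty (X.Equiv X') := by
  refine ⟨⟨θ, hθ, fun z => ?_⟩⟩
  induction z using TensorProduct.induction_on with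
  | zero => rw [map_zero, map_zero, map_zero]
  | tmul b₀ j =>
    obtain ⟨b, rfl⟩ := S.hπ b₀
    obtain ⟨e, rfl⟩ := X.isExtension.proj_surjective b
    rw [S.incl_tmul hN hX, map_smul, ← hθ, S.incl_tmul hN hX']
  | add x y hx hy => rw [map_add, map_add, hx, hy, map_add]

/-- the kernel of `E → B → B₀` in a `J`-compatible extension is `m' E`. -/
theorem ker_πproj {X : Ext C' B (B₀ ⊗[k] ↥(RingHom.ker p.toAlgHom))}
    (hX : JCompat (iotaJ p B₀) X) :
    RingHom.ker (π.comp (X.proj : X.E →+* B)) =
      (IsLocalRing.maximalIdeal C').map (algebraMap C' X.E) := by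
  -- the kernel of `proj` lies in `J E`
  have hJ : ∀ z : B₀ ⊗[k] ↥(RingHom.ker p.toAlgHom),
      X.incl z ∈ (IsLocalRing.maximalIdeal C').map (algebraMap C' X.E) := by
    intro z
    induction z using TensorProduct.induction_on with
    | zero => rw [map_zero]; exact Ideal.zero_mem _
    | tmul b₀ j =>
      obtain ⟨b, rfl⟩ := S.hπ b₀
      obtain ⟨e, rfl⟩ := X.isExtension.proj_surjective b
      rw [S.incl_tmul hN hX, Algebra.smul_def]
      exact Ideal.mul_mem_right _ _ (Ideal.mem_map_of_mem _ (S.ker_le_maximalIdeal j.2))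
    | add x y hx hy => rw [map_add]; exact Ideal.add_mem _ hx hy
  apply le_antisymm
  · intro e he
    have h1 : X.proj e ∈ RingHom.ker π := he
    have h2 : (algebraMap C' B) = (X.proj : X.E →+* B).comp (algebraMap C' X.E) := by
      ext c
      exact (X.proj.commutes c).symm
    rw [S.hker, h2, ← Ideal.map_map, Ideal.mem_map_iff_of_surjective (X.proj : X.E →+* B)
      X.isExtension.proj_surjective] at h1
    obtain ⟨e', he', hee'⟩ := h1
    have h3 : X.proj (e - e') = 0 := by
      rw [map_sub, sub_eq_zero]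
      exact hee'.symm
    obtain ⟨z, hz⟩ := (X.isExtension.exact _).mp h3
    have h4 : e = e' + X.incl z := by rw [hz]; ring
    rw [h4]
    exact Ideal.add_mem _ he' (hJ z)
  · rw [Ideal.map_le_iff_le_comap]
    intro c hc
    rw [Ideal.mem_comap, RingHom.mem_ker]
    change π (X.proj (algebraMap C' X.E c)) = 0
    rw [AlgHom.commutes, S.π_algebraMap_of_mem hc]

end Setup

end Groth.Agent.H61.AffLift
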