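import Groth.Agent.H61.AffLift.Cls

set_option linter.style.haveILetI false
set_option linter.unusedSectionVars false
set_option autoImplicit false

/-!
# The extension attached to a ring-level lifting

`E` a flat `C'`-algebra with a surjection `q : E → B` of `C'`-algebras whose kernel is `J E`
gives an extension of `B` by `B₀ ⊗_k J` over `C'`, compatible with `J`.
-/

namespace Groth.Agent.H61.AffLift

universe u

open ArtFun ArtFun.Art TensorProduct CategoryTheory Exal

variable {k : Type u} [Field k] {C' C : Art k k} {p : C' ⟶ C}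
  {B : Type u} [CommRing B] [Algebra C B] [Algebra C' B]
  {B₀ : Type u} [CommRing B₀] [Algebra k B₀] {π : B →+* B₀}

/-- the map `J → B₀ ⊗ J`, `j ↦ 1 ⊗ j`. -/
noncomputable def iotaJ (p : C' ⟶ C) (B₀ : Type u) [CommRing B₀] [Algebra k B₀] :
    ↥(RingHom.ker p.toAlgHom) → B₀ ⊗[k] ↥(RingHom.ker p.toAlgHom) :=
  fun j => (1 : B₀) ⊗ₜ[k] j

namespace Setup

variable (S : Setup p π)

include S in
/-- multiplication of an element of `J` by `a` only depends on the residue of `a`. -/
lemma mul_eq_res_smul {j : C'} (hj : j ∈ RingHom.ker p.toAlgHom) (a : C') :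
    j * a = C'.res a • j := by
  have h1 : a - algebraMap k C' (C'.res a) ∈ IsLocalRing.maximalIdeal C' := by
    rw [mem_maximalIdeal_iff, map_sub, AlgHom.commutes, Algebra.algebraMap_self_apply, sub_self]
  have h2 := S.mul_eq_zero_of_mem h1 hj
  rw [sub_mul, sub_eq_zero] at h2
  rw [mul_comm, h2, Algebra.smul_def]

end Setup

section Data

variable (S : Setup p π)
  (E : Type u) [CommRing E] [Algebra C' E] [Algebra k E] [IsScalarTower k C' E]
  (q : E →ₐ[C'] B)

/-- hypotheses on a ring-level lifting. -/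
structure LiftData : Prop where
  flat : Module.Flat C' E
  surj : Function.Surjective q
  ker_q : RingHom.ker q = (RingHom.ker p.toAlgHom).map (algebraMap C' E)
  ker_πq : RingHom.ker (π.comp (q : E →+* B)) = (IsLocalRing.maximalIdeal C').map (algebraMap C' E)

variable {E q} (L : LiftData (p := p) (π := π) E q)

include S L

lemma LiftData.πq_surjective : Function.Surjective (fun e : E => π (q e)) :=
  S.hπ.comp L.surj

/-- (W) `j • e` only depends on the image of `e` in `B₀`. -/
lemma LiftData.smul_eq_of_πq_eq {j : C'} (hj : j ∈ RingHom.ker p.toAlgHom) {e e' : E}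
    (h : π (q e) = π (q e')) : j • e = j • e' := by
  have h1 : e - e' ∈ RingHom.ker (π.comp (q : E →+* B)) := by
    rw [RingHom.mem_ker]
    change π (q (e - e')) = 0
    rw [map_sub, map_sub, h, sub_self]
  rw [L.ker_πq] at h1
  have h2 : ∀ z ∈ (IsLocalRing.maximalIdeal C').map (algebraMap C' E), j • z = 0 := by
    intro z hz
    refine Submodule.span_induction ?_ ?_ ?_ ?_ hz
    · rintro _ ⟨c, hc, rfl⟩
      rw [Algebra.smul_def, ← map_mul, mul_comm, S.mul_eq_zero_of_mem hc hj, map_zero]
    · exact smul_zero _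
    · intro x y _ _ hx hy
      rw [smul_add, hx, hy, add_zero]
    · intro a x _ hx
      rw [smul_eq_mul, ← mul_smul_comm, hx, mul_zero]
  have h3 := h2 _ h1
  rw [smul_sub, sub_eq_zero] at h3
  exact h3

lemma LiftData.πq_smul (c : k) (e : E) : π (q (c • e)) = c • π (q e) := by
  rw [← algebraMap_smul C' c e, map_smul, Algebra.smul_def, map_mul, S.hcomp, AlgHom.commutes,
    Algebra.algebraMap_self_apply, Algebra.smul_def]

/-- the bilinear map `(b₀, j) ↦ j • e` with `e` any lift of `b₀`. -/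
noncomputable def LiftData.bil : B₀ →ₗ[k] ↥(RingHom.ker p.toAlgHom) →ₗ[k] E :=
  LinearMap.mk₂ k (fun b₀ j => (j : C') • Function.surjInv (L.πq_surjective S) b₀)
    (fun b₀ b₀' j => by
      rw [← smul_add]
      apply L.smul_eq_of_πq_eq S j.2
      rw [map_add, map_add, Function.surjInv_eq (L.πq_surjective S),
        Function.surjInv_eq (L.πq_surjective S), Function.surjInv_eq (L.πq_surjective S)])
    (fun c b₀ j => by
      rw [smul_comm]
      apply L.smul_eq_of_πq_eq S j.2
      rw [L.πq_smul S, Function.surjInv_eq (L.πq_surjective S),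
        Function.surjInv_eq (L.πq_surjective S)])
    (fun b₀ j j' => by
      rw [← add_smul]
      rfl)
    (fun c b₀ j => by
      rw [← smul_assoc]
      rfl)

lemma LiftData.bil_apply (e : E) (j : ↥(RingHom.ker p.toAlgHom)) :
    L.bil S (π (q e)) j = (j : C') • e := by
  change (j : C') • Function.surjInv (L.πq_surjective S) (π (q e)) = _
  apply L.smul_eq_of_πq_eq S j.2
  exact Function.surjInv_eq (L.πq_surjective S) _

/-- the inclusion `B₀ ⊗ J → E`. -/
noncomputable def LiftData.nu : (B₀ ⊗[k] ↥(RingHom.ker p.toAlgHom)) →+ E :=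
  (TensorProduct.lift (L.bil S)).toAddMonoidHom

lemma LiftData.nu_tmul (e : E) (j : ↥(RingHom.ker p.toAlgHom)) :
    L.nu S (π (q e) ⊗ₜ[k] j) = (j : C') • e := by
  change TensorProduct.lift (L.bil S) (π (q e) ⊗ₜ[k] j) = _
  rw [TensorProduct.lift.tmul, L.bil_apply S]

lemma LiftData.q_nu (z : B₀ ⊗[k] ↥(RingHom.ker p.toAlgHom)) : q (L.nu S z) = 0 := by
  induction z using TensorProduct.induction_on with
  | zero => rw [map_zero, map_zero]
  | tmul b₀ j =>
    obtain ⟨e, rfl⟩ := L.πq_surjective S b₀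
    rw [L.nu_tmul S, map_smul, Algebra.smul_def, S.algebraMap_eq_zero_of_mem j.2, zero_mul]
  | add x y hx hy => rw [map_add, map_add, hx, hy, add_zero]

variable [Module B (B₀ ⊗[k] ↥(RingHom.ker p.toAlgHom))]
  (hN : ∀ (b : B) (n : B₀ ⊗[k] ↥(RingHom.ker p.toAlgHom)), b • n = π b • n)

include hN in
lemma LiftData.mul_nu (x : E) (z : B₀ ⊗[k] ↥(RingHom.ker p.toAlgHom)) :
    x * L.nu S z = L.nu S (q x • z) := by
  induction z using TensorProduct.induction_on with
  | zero => rw [map_zero, mul_zero, smul_zero, map_zero]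
  | tmul b₀ j =>
    obtain ⟨e, rfl⟩ := L.πq_surjective S b₀
    change x * L.nu S (π (q e) ⊗ₜ[k] j) = L.nu S (q x • (π (q e) ⊗ₜ[k] j))
    rw [L.nu_tmul S, hN, TensorProduct.smul_tmul', smul_eq_mul, ← map_mul, ← map_mul,
      L.nu_tmul S, mul_smul_comm]
  | add y y' hy hy' => rw [map_add, mul_add, hy, hy', smul_add, map_add]

include hN in
lemma LiftData.exists_nu_of_q_eq_zero (x : E) (hx : q x = 0) : ∃ z, L.nu S z = x := by
  have h1 : x ∈ RingHom.ker q := hx
  rw [L.ker_q] at h1
  refine Submodule.span_induction ?_ ?_ ?_ ?_ h1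
  · rintro _ ⟨j, hj, rfl⟩
    refine ⟨π (q 1) ⊗ₜ[k] ⟨j, hj⟩, ?_⟩
    rw [L.nu_tmul S, Algebra.algebraMap_eq_smul_one]
  · exact ⟨0, map_zero _⟩
  · rintro a b _ _ ⟨z, rfl⟩ ⟨z', rfl⟩
    exact ⟨z + z', map_add _ _ _⟩
  · rintro a b _ ⟨z, rfl⟩
    exact ⟨q a • z, by rw [smul_eq_mul, L.mul_nu S hN]⟩

lemma LiftData.nu_injective : Function.Injective (L.nu S) := by
  haveI := L.flat
  rw [injective_iff_map_eq_zero]
  intro z hz
  classical
  let 𝔟 := Module.Free.chooseBasis k ↥(RingHom.ker p.toAlgHom)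
  let b := TensorProduct.equivFinsuppOfBasisRight (M := B₀) 𝔟 z
  have hzb : z = b.sum fun i m => m ⊗ₜ[k] (𝔟 i) := by
    rw [← TensorProduct.equivFinsuppOfBasisRight_symm_apply, LinearEquiv.symm_apply_apply]
  choose e he using fun i => L.πq_surjective S (b i)
  have he' : ∀ i, π (q (e i)) = b i := he
  -- the relation in `E`
  have hrel : ∑ i : ↥b.support, ((𝔟 (i : _) : ↥(RingHom.ker p.toAlgHom)) : C') • e (i : _) = 0 := by
    rw [hzb, Finsupp.sum, map_sum] at hz
    rw [Finset.sum_coe_sort b.support (fun i => ((𝔟 i : ↥(RingHom.ker p.toAlgHom)) : C') • e i),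
      ← hz]
    refine Finset.sum_congr rfl fun i _ => ?_
    rw [← he' i, L.nu_tmul S]
  obtain ⟨m, a, y, hxy', hfa'⟩ :=
    Module.Flat.isTrivialRelation_of_sum_smul_eq_zero (R := C') (M := E) hrel
  have hxy : ∀ i : ↥b.support, e (i : _) = ∑ l, a i l • y l := hxy'
  have hfa : ∀ l, ∑ i : ↥b.support, ((𝔟 (i : _) : ↥(RingHom.ker p.toAlgHom)) : C') * a i l = 0 :=
    hfa'
  -- the coefficients lie in the maximal ideal
  have hres : ∀ (i : ↥b.support) (l : Fin m), C'.res (a i l) = 0 := by
    intro i l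
    have h1 : ∑ i' : ↥b.support, C'.res (a i' l) • (𝔟 (i' : _)) = 0 := by
      apply Subtype.ext
      rw [Submodule.coe_sum, Submodule.coe_zero, ← hfa l]
      refine Finset.sum_congr rfl fun i' _ => ?_
      rw [Submodule.coe_smul_of_tower, ← S.mul_eq_res_smul (𝔟 (i' : _)).2]
    have h2 := (𝔟.linearIndependent.comp (fun i : ↥b.support => (i : _))
      Subtype.val_injective)
    rw [Fintype.linearIndependent_iff] at h2
    exact h2 (fun i' => C'.res (a i' l)) h1 i
  have hb0 : ∀ i : ↥b.support, b (i : _) = 0 := by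
    intro i
    rw [← he' i, hxy i, map_sum, map_sum]
    refine Finset.sum_eq_zero fun l _ => ?_
    rw [map_smul, Algebra.smul_def, map_mul, S.hcomp, hres, map_zero, zero_mul]
  have hsupp : b.support = ∅ := by
    rw [Finset.eq_empty_iff_forall_notMem]
    intro i hi
    exact (Finsupp.mem_support_iff.mp hi) (hb0 ⟨i, hi⟩)
  rw [hzb, Finsupp.sum, hsupp, Finset.sum_empty]

/-- the extension of `B` by `B₀ ⊗ J` attached to a ring-level lifting. -/
noncomputable def LiftData.toExt : Ext C' B (B₀ ⊗[k] ↥(RingHom.ker p.toAlgHom)) where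
  E := E
  proj := q
  incl := L.nu S
  isExtension :=
    { proj_surjective := L.surj
      incl_injective := L.nu_injective S
      exact := fun x => ⟨fun hx => L.exists_nu_of_q_eq_zero S hN x hx, by
        rintro ⟨z, rfl⟩
        exact L.q_nu S z⟩
      mul_incl := fun x z => L.mul_nu S hN x z }

lemma LiftData.jCompat : JCompat (iotaJ p B₀) (L.toExt S hN) := by
  intro j e
  change (j : C') • e = L.nu S (q e • ((1 : B₀) ⊗ₜ[k] j))
  rw [hN, TensorProduct.smul_tmul', smul_eq_mul, mul_one, L.nu_tmul S]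
  rfl

end Data

end Groth.Agent.H61.AffLift
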