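import Groth.Agent.H61.AffLift.SchSetup
import Groth.Agent.H61.AffLift.KerSpec

set_option linter.style.haveILetI false
set_option linter.unusedSectionVars false
set_option autoImplicit false

/-!
# From an extension of a deformation to ring data
-/

open AlgebraicGeometry CategoryTheory CategoryTheory.Limits Opposite TopologicalSpace

namespace Groth.Agent.H61.AffLift

universe u

open ArtFun ArtFun.Art TensorProduct Exal Groth.Agent.H61.DefAlg Groth.Agent.H61.AffThick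

variable {k : Type u} [Field k] {B₀ : Type u} [CommRing B₀] [Algebra k B₀] {C' C : Art k k}

/-- extensions of the deformation `𝒳` over `C` to `C'`. -/
abbrev Lifts (p : C' ⟶ C) (𝒳 : DefSch (XB k B₀) (xB k B₀) C) : Type (u + 1) :=
  Σ 𝒳' : DefSch (XB k B₀) (xB k B₀) C', (𝒳'.baseChange p).Iso 𝒳

variable (p : C' ⟶ C) (𝒳 : DefSch (XB k B₀) (xB k B₀) C)

/-- the closed immersion `𝒳 → 𝒳'` attached to an extension. -/
noncomputable def jA (a : Lifts p 𝒳) : 𝒳.total ⟶ a.1.total :=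
  (a.2.iso.inv : 𝒳.total ⟶ pullback a.1.f (specMap p)) ≫ pullback.fst a.1.f (specMap p)

lemma inv_snd (a : Lifts p 𝒳) :
    (a.2.iso.inv : 𝒳.total ⟶ pullback a.1.f (specMap p)) ≫ pullback.snd a.1.f (specMap p) = 𝒳.f :=
  a.2.symm.hom_f

lemma i_inv (a : Lifts p 𝒳) :
    𝒳.i ≫ (a.2.iso.inv : 𝒳.total ⟶ pullback a.1.f (specMap p)) = (a.1.baseChange p).i :=
  a.2.symm.i_hom

lemma jA_f (a : Lifts p 𝒳) : jA p 𝒳 a ≫ a.1.f = 𝒳.f ≫ specMap p := by
  unfold jA
  rw [Category.assoc, pullback.condition, ← Category.assoc, inv_snd]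

lemma i_jA (a : Lifts p 𝒳) : 𝒳.i ≫ jA p 𝒳 a = a.1.i := by
  unfold jA
  rw [← Category.assoc, i_inv]
  exact DefSch.baseChange_i_fst a.1 p

lemma hom_jA (a : Lifts p 𝒳) :
    (a.2.iso.hom : pullback a.1.f (specMap p) ⟶ 𝒳.total) ≫ jA p 𝒳 a =
      pullback.fst a.1.f (specMap p) := by
  unfold jA
  rw [← Category.assoc]
  have h : (a.2.iso.hom : pullback a.1.f (specMap p) ⟶ 𝒳.total) ≫
      (a.2.iso.inv : 𝒳.total ⟶ pullback a.1.f (specMap p)) = 𝟙 _ := a.2.iso.hom_inv_id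
  rw [h, Category.id_comp]

lemma jA_appTop_φ (a : Lifts p 𝒳) (c : C') :
    (jA p 𝒳 a).appTop.hom (DefSch.φ a.1 c) = DefSch.φ 𝒳 (p.toAlgHom c) := by
  have h1 : a.1.f.appTop ≫ (jA p 𝒳 a).appTop = (specMap p).appTop ≫ 𝒳.f.appTop := by
    rw [← Scheme.Hom.comp_appTop, ← Scheme.Hom.comp_appTop, jA_f]
  have h2 := ConcreteCategory.congr_hom h1 ((Scheme.ΓSpecIso (CommRingCat.of C')).inv.hom c)
  have h3 := ConcreteCategory.congr_hom
    (Scheme.ΓSpecIso_inv_naturality (CommRingCat.ofHom p.toAlgHom.toRingHom)) c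
  simp only [CommRingCat.comp_apply] at h2 h3
  change (jA p 𝒳 a).appTop.hom (a.1.f.appTop.hom _) = 𝒳.f.appTop.hom _
  rw [h2]
  congr 1
  exact h3.symm

/-- the ring map `Γ(𝒳') → Γ(𝒳)` as a map of `C'`-algebras. -/
noncomputable def qA (a : Lifts p 𝒳) : GRing a.1 →ₐ[C'] BR p 𝒳 :=
  { (jA p 𝒳 a).appTop.hom with commutes' := fun c => jA_appTop_φ p 𝒳 a c }

lemma qA_apply (a : Lifts p 𝒳) (e : GRing a.1) : qA p 𝒳 a e = (jA p 𝒳 a).appTop.hom e := rfl

lemma πR_qA (a : Lifts p 𝒳) (e : GRing a.1) : πR p 𝒳 (qA p 𝒳 a e) = πAlg a.1 e := by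
  have h1 : (jA p 𝒳 a).appTop ≫ 𝒳.i.appTop = a.1.i.appTop := by
    rw [← Scheme.Hom.comp_appTop, i_jA]
  have h2 := ConcreteCategory.congr_hom h1 e
  simp only [CommRingCat.comp_apply] at h2
  change (Scheme.ΓSpecIso (CommRingCat.of B₀)).hom.hom (𝒳.i.appTop.hom ((jA p 𝒳 a).appTop.hom e)) =
    (Scheme.ΓSpecIso (CommRingCat.of B₀)).hom.hom (a.1.i.appTop.hom e)
  rw [h2]

lemma isClosedImmersion_specMap (hp : Function.Surjective p) : IsClosedImmersion (specMap p) :=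
  IsClosedImmersion.spec_of_surjective _ hp

lemma isClosedImmersion_jA (hp : Function.Surjective p) (a : Lifts p 𝒳) :
    IsClosedImmersion (jA p 𝒳 a) := by
  haveI := isClosedImmersion_specMap p hp
  haveI : IsClosedImmersion (pullback.fst a.1.f (specMap p)) := inferInstance
  haveI : IsIso (a.2.iso.inv : 𝒳.total ⟶ pullback a.1.f (specMap p)) :=
    inferInstanceAs (IsIso a.2.iso.inv)
  unfold jA
  infer_instance

lemma qA_surjective (hp : Function.Surjective p) (a : Lifts p 𝒳) :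
    Function.Surjective (qA p 𝒳 a) := by
  haveI := DefSch.isAffine_total a.1
  haveI := isClosedImmersion_jA p 𝒳 hp a
  exact (jA p 𝒳 a).app_surjective ⊤ (isAffineOpen_top _)

lemma ker_fst_appTop (hp : Function.Surjective p) (𝒳' : DefSch (XB k B₀) (xB k B₀) C') :
    RingHom.ker (pullback.fst 𝒳'.f (specMap p)).appTop.hom =
      (RingHom.ker p.toAlgHom).map (DefSch.φ 𝒳') := by
  haveI := DefSch.isAffine_total 𝒳'
  haveI := isClosedImmersion_specMap p hp
  haveI : IsAffine (pullback 𝒳'.f (specMap p)) := DefSch.isAffine_total (𝒳'.baseChange p)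
  have h1 : (pullback.fst 𝒳'.f (specMap p)).ker = (specMap p).ker.comap 𝒳'.f :=
    ker_eq_comap_of_isPullback (IsPullback.of_hasPullback 𝒳'.f (specMap p))
  have h2 := congrArg (fun K => K.ideal ⟨⊤, isAffineOpen_top 𝒳'.total⟩) h1
  simp only at h2
  rw [Scheme.Hom.ker_apply, Groth.Agent.H19.ComapAff.ideal_comap_top, Scheme.Hom.ker_apply] at h2
  have h3 : RingHom.ker ((specMap p).app ⊤).hom =
      (RingHom.ker (CommRingCat.ofHom p.toAlgHom.toRingHom).hom).map
        (Scheme.ΓSpecIso (CommRingCat.of C')).inv.hom :=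
    ker_SpecMap_appTop (CommRingCat.ofHom p.toAlgHom.toRingHom)
  rw [h3, Ideal.map_map] at h2
  exact h2

lemma jA_appTop_eq_zero_iff (hp : Function.Surjective p) (a : Lifts p 𝒳) (e : Γ(a.1.total, ⊤)) :
    (jA p 𝒳 a).appTop.hom e = 0 ↔ e ∈ (RingHom.ker p.toAlgHom).map (DefSch.φ a.1) := by
  rw [← ker_fst_appTop p hp a.1, RingHom.mem_ker]
  have h2 : (jA p 𝒳 a).appTop = (pullback.fst a.1.f (specMap p)).appTop ≫
      (a.2.iso.inv : 𝒳.total ⟶ pullback a.1.f (specMap p)).appTop := by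
    unfold jA
    rw [Scheme.Hom.comp_appTop]
  have h3 : (jA p 𝒳 a).appTop.hom e =
      (a.2.iso.inv : 𝒳.total ⟶ pullback a.1.f (specMap p)).appTop.hom
        ((pullback.fst a.1.f (specMap p)).appTop.hom e) := by
    rw [h2]
    rfl
  rw [h3]
  have hinj : Function.Injective
      (a.2.iso.inv : 𝒳.total ⟶ pullback a.1.f (specMap p)).appTop.hom := by
    have h4 : (a.2.iso.inv : 𝒳.total ⟶ pullback a.1.f (specMap p)).appTop ≫
        (a.2.iso.hom : pullback a.1.f (specMap p) ⟶ 𝒳.total).appTop = 𝟙 _ := by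
      rw [← Scheme.Hom.comp_appTop]
      have h5 : (a.2.iso.hom : pullback a.1.f (specMap p) ⟶ 𝒳.total) ≫
          (a.2.iso.inv : 𝒳.total ⟶ pullback a.1.f (specMap p)) = 𝟙 _ := a.2.iso.hom_inv_id
      rw [h5]
      rfl
    intro x y hxy
    have h6 := ConcreteCategory.congr_hom h4 x
    have h7 := ConcreteCategory.congr_hom h4 y
    simp only [CommRingCat.comp_apply, CommRingCat.id_apply] at h6 h7
    rw [← h6, ← h7, hxy]
  constructor
  · intro h
    exact hinj (h.trans (map_zero _).symm)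
  · intro h
    rw [h, map_zero]

lemma ker_qA (hp : Function.Surjective p) (a : Lifts p 𝒳) :
    RingHom.ker (qA p 𝒳 a) = (RingHom.ker p.toAlgHom).map (algebraMap C' (GRing a.1)) := by
  ext e
  exact jA_appTop_eq_zero_iff p 𝒳 hp a e

theorem liftData (hp : IsSemismallExt p) (a : Lifts p 𝒳) :
    LiftData (p := p) (π := πR p 𝒳) (GRing a.1) (qA p 𝒳 a) where
  flat := inferInstance
  surj := qA_surjective p 𝒳 hp.1 a
  ker_q := ker_qA p 𝒳 hp.1 a
  ker_πq := by
    rw [← ker_πAlg a.1]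
    ext e
    rw [RingHom.mem_ker, RingHom.mem_ker]
    change πR p 𝒳 (qA p 𝒳 a e) = 0 ↔ πAlg a.1 e = 0
    rw [πR_qA]

end Groth.Agent.H61.AffLift
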