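import Groth.Agent.H61.AffLift.SchDict
import Groth.Agent.H61.AffLift.IsoOfRing

set_option linter.style.haveILetI false
set_option linter.unusedSectionVars false
set_option autoImplicit false

/-!
# Equivalence of extensions of a deformation in terms of ring isomorphisms
-/

open AlgebraicGeometry CategoryTheory CategoryTheory.Limits Opposite TopologicalSpace

namespace Groth.Agent.H61.AffLift

universe u

open ArtFun ArtFun.Art TensorProduct Exal Groth.Agent.H61.DefAlg Groth.Agent.H61.AffThick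

variable {k : Type u} [Field k] {B₀ : Type u} [CommRing B₀] [Algebra k B₀] {C' C : Art k k}
variable (p : C' ⟶ C) (𝒳 : DefSch (XB k B₀) (xB k B₀) C)

/-- the equivalence relation on extensions of `𝒳`. -/
def Rel (a b : Lifts p 𝒳) : Prop :=
  ∃ ψ : a.1.Iso b.1, ((ψ.baseChange p).trans b.2).iso = a.2.iso

variable {p 𝒳}

lemma rel_iff_exists (a b : Lifts p 𝒳) :
    Rel p 𝒳 a b ↔ ∃ ψ : a.1.Iso b.1,
      DefSch.pullMap ψ.iso.hom ψ.hom_f p ≫
        (b.2.iso.hom : pullback b.1.f (specMap p) ⟶ 𝒳.total) =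
      (a.2.iso.hom : pullback a.1.f (specMap p) ⟶ 𝒳.total) := by
  constructor
  · rintro ⟨ψ, hψ⟩
    exact ⟨ψ, congrArg CategoryTheory.Iso.hom hψ⟩
  · rintro ⟨ψ, hψ⟩
    exact ⟨ψ, CategoryTheory.Iso.ext hψ⟩

lemma pullMap_hom_iff (a b : Lifts p 𝒳) (ψ : a.1.Iso b.1) :
    DefSch.pullMap ψ.iso.hom ψ.hom_f p ≫
        (b.2.iso.hom : pullback b.1.f (specMap p) ⟶ 𝒳.total) =
      (a.2.iso.hom : pullback a.1.f (specMap p) ⟶ 𝒳.total) ↔
    jA p 𝒳 a ≫ ψ.iso.hom = jA p 𝒳 b := by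
  have hβ : (b.2.iso.hom : pullback b.1.f (specMap p) ⟶ 𝒳.total) ≫
      (b.2.iso.inv : 𝒳.total ⟶ pullback b.1.f (specMap p)) = 𝟙 _ := b.2.iso.hom_inv_id
  have hβ' : (b.2.iso.inv : 𝒳.total ⟶ pullback b.1.f (specMap p)) ≫
      (b.2.iso.hom : pullback b.1.f (specMap p) ⟶ 𝒳.total) = 𝟙 _ := b.2.iso.inv_hom_id
  have hα : (a.2.iso.inv : 𝒳.total ⟶ pullback a.1.f (specMap p)) ≫
      (a.2.iso.hom : pullback a.1.f (specMap p) ⟶ 𝒳.total) = 𝟙 _ := a.2.iso.inv_hom_id
  constructor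
  · intro h
    have h1 : (a.2.iso.inv : 𝒳.total ⟶ pullback a.1.f (specMap p)) ≫
        DefSch.pullMap ψ.iso.hom ψ.hom_f p =
        (b.2.iso.inv : 𝒳.total ⟶ pullback b.1.f (specMap p)) := by
      have h2 := congrArg (fun m => (a.2.iso.inv : 𝒳.total ⟶ pullback a.1.f (specMap p)) ≫ m ≫
        (b.2.iso.inv : 𝒳.total ⟶ pullback b.1.f (specMap p))) h
      simp only at h2
      rw [Category.assoc, hβ, Category.comp_id, ← Category.assoc, hα, Category.id_comp] at h2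
      exact h2
    unfold jA
    rw [Category.assoc, ← DefSch.pullMap_fst ψ.iso.hom ψ.hom_f p, ← Category.assoc, h1]
  · intro h
    have h1 : DefSch.pullMap ψ.iso.hom ψ.hom_f p =
        (a.2.iso.hom : pullback a.1.f (specMap p) ⟶ 𝒳.total) ≫
          (b.2.iso.inv : 𝒳.total ⟶ pullback b.1.f (specMap p)) := by
      apply pullback.hom_ext
      · rw [DefSch.pullMap_fst, Category.assoc]
        have h2 : (b.2.iso.inv : 𝒳.total ⟶ pullback b.1.f (specMap p)) ≫
            pullback.fst b.1.f (specMap p) = jA p 𝒳 b := rfl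
        rw [h2, ← h, ← Category.assoc, hom_jA]
      · rw [DefSch.pullMap_snd, Category.assoc, inv_snd]
        exact (a.2.hom_f).symm
    rw [h1, Category.assoc, hβ', Category.comp_id]

/-- equivalent extensions have isomorphic coordinate rings over `Γ(𝒳)`. -/
theorem exists_algEquiv_of_rel (a b : Lifts p 𝒳) (h : Rel p 𝒳 a b) :
    ∃ θ : GRing a.1 ≃ₐ[C'] GRing b.1, ∀ e, qA p 𝒳 b (θ e) = qA p 𝒳 a e := by
  rw [rel_iff_exists] at h
  obtain ⟨ψ, hψ⟩ := h
  rw [pullMap_hom_iff] at hψ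
  have hψ' : jA p 𝒳 b ≫ ψ.iso.inv = jA p 𝒳 a := by
    rw [← hψ, Category.assoc, ψ.iso.hom_inv_id, Category.comp_id]
  have h1 : ψ.iso.inv.appTop ≫ ψ.iso.hom.appTop = 𝟙 _ := by
    rw [← Scheme.Hom.comp_appTop, ψ.iso.hom_inv_id]
    rfl
  have h2 : ψ.iso.hom.appTop ≫ ψ.iso.inv.appTop = 𝟙 _ := by
    rw [← Scheme.Hom.comp_appTop, ψ.iso.inv_hom_id]
    rfl
  let θr : GRing a.1 ≃+* GRing b.1 :=
    RingEquiv.ofRingHom (ψ.iso.inv.appTop.hom : Γ(a.1.total, ⊤) →+* Γ(b.1.total, ⊤))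
      (ψ.iso.hom.appTop.hom : Γ(b.1.total, ⊤) →+* Γ(a.1.total, ⊤))
      (by
        ext z
        have := ConcreteCategory.congr_hom h2 z
        simp only [CommRingCat.comp_apply, CommRingCat.id_apply] at this
        exact this)
      (by
        ext z
        have := ConcreteCategory.congr_hom h1 z
        simp only [CommRingCat.comp_apply, CommRingCat.id_apply] at this
        exact this)
  have hθr : ∀ z : GRing a.1, θr z = ψ.iso.inv.appTop.hom z := fun z => rfl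
  have hcomm : ∀ c : C', θr (algebraMap C' (GRing a.1) c) = algebraMap C' (GRing b.1) c := by
    intro c
    rw [hθr]
    have h3 : a.1.f.appTop ≫ ψ.iso.inv.appTop = b.1.f.appTop := by
      rw [← Scheme.Hom.comp_appTop]
      congr 1
      exact ψ.symm.hom_f
    have h4 := ConcreteCategory.congr_hom h3 ((Scheme.ΓSpecIso (CommRingCat.of C')).inv.hom c)
    simp only [CommRingCat.comp_apply] at h4
    exact h4
  refine ⟨AlgEquiv.ofRingEquiv (f := θr) hcomm, fun e => ?_⟩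
  change (jA p 𝒳 b).appTop.hom (ψ.iso.inv.appTop.hom e) = (jA p 𝒳 a).appTop.hom e
  have h5 : ψ.iso.inv.appTop ≫ (jA p 𝒳 b).appTop = (jA p 𝒳 a).appTop := by
    rw [← Scheme.Hom.comp_appTop, hψ']
  have h6 := ConcreteCategory.congr_hom h5 e
  simp only [CommRingCat.comp_apply] at h6
  exact h6

/-- an isomorphism of coordinate rings over `Γ(𝒳)` gives an equivalence of extensions. -/
theorem rel_of_algEquiv (a b : Lifts p 𝒳) (θ : GRing a.1 ≃ₐ[C'] GRing b.1)
    (hθ : ∀ e, qA p 𝒳 b (θ e) = qA p 𝒳 a e) : Rel p 𝒳 a b := by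
  have hθs : ∀ e, qA p 𝒳 a (θ.symm e) = qA p 𝒳 b e := fun e => by
    rw [← hθ, AlgEquiv.apply_symm_apply]
  let θ' : Γ(b.1.total, ⊤) ⟶ Γ(a.1.total, ⊤) :=
    CommRingCat.ofHom ((θ.symm : GRing b.1 →ₐ[C'] GRing a.1) : GRing b.1 →+* GRing a.1)
  have hθ' : ∀ z : Γ(b.1.total, ⊤), θ'.hom z = θ.symm z := fun z => rfl
  have hf : b.1.f.appTop ≫ θ' = a.1.f.appTop := by
    ext z
    change θ'.hom (b.1.f.appTop.hom z) = a.1.f.appTop.hom z
    rw [← ΓSpecIso_hom_inv_apply _ z, hθ']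
    exact θ.symm.commutes ((Scheme.ΓSpecIso (CommRingCat.of C')).hom.hom z)
  have hi : θ' ≫ a.1.i.appTop = b.1.i.appTop := by
    ext e
    change a.1.i.appTop.hom (θ'.hom e) = b.1.i.appTop.hom e
    have hinj : Function.Injective (Scheme.ΓSpecIso (CommRingCat.of B₀)).hom.hom :=
      (ConcreteCategory.bijective_of_isIso (Scheme.ΓSpecIso (CommRingCat.of B₀)).hom).1
    apply hinj
    have h1 : πAlg a.1 (θ.symm e) = πAlg b.1 e := by
      rw [← πR_qA p 𝒳 a, ← πR_qA p 𝒳 b, hθs]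
    exact h1
  obtain ⟨ψ, hψ⟩ := exists_iso_of_ringHom b.1 a.1 θ' hf hi
  rw [rel_iff_exists]
  refine ⟨ψ, ?_⟩
  rw [pullMap_hom_iff]
  apply hψ
  ext e
  change (jA p 𝒳 a).appTop.hom (θ'.hom e) = (jA p 𝒳 b).appTop.hom e
  rw [hθ']
  exact hθs e

end Groth.Agent.H61.AffLift
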