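import Groth.Agent.H61.AffLift.Cls

set_option linter.style.haveILetI false
set_option linter.unusedSectionVars false
set_option autoImplicit false

/-!
# Every class is realised, by an extension whose middle ring is flat
-/

namespace Groth.Agent.H61.AffLift

universe u

open ArtFun ArtFun.Art TensorProduct CategoryTheory Exal
open Groth.Agent.H56.ExalT1 Groth.Agent.H56.ExalPres

variable {k : Type u} [Field k] {C' C : Art k k} {p : C' ⟶ C}
  {B : Type u} [CommRing B] [Algebra C B] [Algebra C' B]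
  {B₀ : Type u} [CommRing B₀] [Algebra k B₀] {π : B →+* B₀}
  {N : Type u} [AddCommGroup N] [Module B₀ N] [Module B N]

section KerChar

variable (Y : Ext C' B N) (s : (P' C' B).toExtension.Ring →ₐ[C'] Y.E) (hs : IsLift Y s)

lemma lift_add_incl_eq_zero_iff (g : (P' C' B).toExtension.Ring) (n : N) :
    s g + Y.incl n = 0 ↔ ∃ hg : g ∈ (P' C' B).toExtension.ker,
      n = - del (P' C' B) Y s hs ⟨g, hg⟩ := by
  constructor
  · intro h
    have hg : g ∈ (P' C' B).toExtension.ker := by
      have h1 := congrArg Y.proj h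
      rw [map_add, hs, Groth.Agent.H29.ExalL.proj_incl, add_zero, map_zero] at h1
      exact h1
    refine ⟨hg, ?_⟩
    have h2 := incl_del (P' C' B) Y s hs ⟨g, hg⟩
    change Y.incl _ = s g at h2
    rw [← h2, ← map_add] at h
    have h3 := Y.isExtension.incl_injective (h.trans (map_zero Y.incl).symm)
    exact (neg_eq_of_add_eq_zero_right h3).symm
  · rintro ⟨hg, rfl⟩
    have h2 := incl_del (P' C' B) Y s hs ⟨g, hg⟩
    change Y.incl _ = s g at h2
    rw [map_neg, h2, add_neg_cancel]

include hs in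
lemma exists_lift_add_incl (e : Y.E) : ∃ (g : (P' C' B).toExtension.Ring) (n : N),
    s g + Y.incl n = e := by
  obtain ⟨g, hg⟩ := (P' C' B).toExtension.algebraMap_surjective (Y.proj e)
  have h1 : Y.proj (e - s g) = 0 := by rw [map_sub, hs, hg, sub_self]
  obtain ⟨n, hn⟩ := (Y.isExtension.exact _).mp h1
  exact ⟨g, n, by rw [hn]; ring⟩

end KerChar

/-- extensions whose maps on the kernel differ by a `C'`-semilinear map defined on all of `R'`
have `C'`-linearly isomorphic middle rings. -/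
theorem linearEquiv_of_del_eq (X₀ X : Ext C' B N)
    (t₀ : (P' C' B).toExtension.Ring →ₐ[C'] X₀.E) (ht₀ : IsLift X₀ t₀)
    (t : (P' C' B).toExtension.Ring →ₐ[C'] X.E) (ht : IsLift X t)
    (Φ : (P' C' B).toExtension.Ring →+ N)
    (hΦ : ∀ (c : C') (g : (P' C' B).toExtension.Ring), Φ (c • g) = algebraMap C' B c • Φ g)
    (h : ∀ x : (P' C' B).toExtension.ker,
      del (P' C' B) X t ht x = del (P' C' B) X₀ t₀ ht₀ x + Φ x) :
    Nonempty (X₀.E ≃ₗ[C'] X.E) := by
  letI : Module C' N := Module.compHom N (algebraMap C' B)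
  have smul_def : ∀ (c : C') (n : N), c • n = algebraMap C' B c • n := fun _ _ => rfl
  have hincl : ∀ (Y : Ext C' B N) (c : C') (n : N), Y.incl (c • n) = c • Y.incl n := by
    intro Y c n
    rw [smul_def, Algebra.smul_def, Y.isExtension.mul_incl, AlgHom.commutes]
  let inclL : ∀ Y : Ext C' B N, N →ₗ[C'] Y.E := fun Y =>
    { toFun := Y.incl, map_add' := map_add Y.incl, map_smul' := hincl Y }
  let ΦL : (P' C' B).toExtension.Ring →ₗ[C'] N :=
    { toFun := Φ, map_add' := map_add Φ, map_smul' := hΦ }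
  let f₀ : ((P' C' B).toExtension.Ring × N) →ₗ[C'] X₀.E := t₀.toLinearMap.coprod (inclL X₀)
  let f₁ : ((P' C' B).toExtension.Ring × N) →ₗ[C'] X.E :=
    t.toLinearMap.coprod (inclL X) ∘ₗ
      (LinearMap.fst C' _ _).prod (LinearMap.snd C' _ _ - ΦL ∘ₗ LinearMap.fst C' _ _)
  have hf₀ : ∀ g n, f₀ (g, n) = t₀ g + X₀.incl n := fun g n => rfl
  have hf₁ : ∀ g n, f₁ (g, n) = t g + X.incl (n - Φ g) := fun g n => rfl
  have hs₀ : Function.Surjective f₀ := by
    intro e
    obtain ⟨g, n, hgn⟩ := exists_lift_add_incl X₀ t₀ ht₀ e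
    exact ⟨(g, n), hgn⟩
  have hs₁ : Function.Surjective f₁ := by
    intro e
    obtain ⟨g, n, hgn⟩ := exists_lift_add_incl X t ht e
    refine ⟨(g, n + Φ g), ?_⟩
    rw [hf₁, add_sub_cancel_right, hgn]
  have hker : LinearMap.ker f₀ = LinearMap.ker f₁ := by
    ext ⟨g, n⟩
    rw [LinearMap.mem_ker, LinearMap.mem_ker, hf₀, hf₁, lift_add_incl_eq_zero_iff X₀ t₀ ht₀,
      lift_add_incl_eq_zero_iff X t ht]
    constructor
    · rintro ⟨hg, rfl⟩
      refine ⟨hg, ?_⟩
      rw [h ⟨g, hg⟩]
      change _ = -(_ + Φ g)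
      abel
    · rintro ⟨hg, h1⟩
      refine ⟨hg, ?_⟩
      rw [h ⟨g, hg⟩] at h1
      change _ = -(_ + Φ g) at h1
      rw [sub_eq_iff_eq_add] at h1
      rw [h1]
      abel
  exact ⟨(f₀.quotKerEquivOfSurjective hs₀).symm.trans
    ((Submodule.quotEquivOfEq _ _ hker).trans (f₁.quotKerEquivOfSurjective hs₁))⟩

namespace Setup

variable [Module k N] [IsScalarTower k B₀ N]
variable (S : Setup p π) (ι : ↥(RingHom.ker p.toAlgHom) → N)
  (hN : ∀ (b : B) (n : N), b • n = π b • n)
  {X₀ : Ext C' B N} (hX₀ : JCompat ι X₀) (t₀ : (P' C' B).toExtension.Ring →ₐ[C'] X₀.E)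
  (ht₀ : IsLift X₀ t₀)

include S in
/-- a `k`-linear extension to `R₀` of a linear map on the conormal module. -/
lemma exists_extend_phi (φ : (P₀ k π S.hπ).toExtension.Cotangent →ₗ[B₀] N) :
    ∃ Φ₀ : (P₀ k π S.hπ).toExtension.Ring →ₗ[k] N,
      ∀ x : (P₀ k π S.hπ).toExtension.ker, Φ₀ x = φ (Algebra.Extension.Cotangent.mk x) := by
  let f : ↥((P₀ k π S.hπ).toExtension.ker.restrictScalars k) →ₗ[k] N :=
    { toFun := fun x => φ (Algebra.Extension.Cotangent.mk
        ⟨(x : (P₀ k π S.hπ).toExtension.Ring), (Submodule.restrictScalars_mem k _ _).mp x.2⟩)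
      map_add' := fun x y => by
        rw [← map_add, ← map_add]
        rfl
      map_smul' := fun c x => by
        rw [RingHom.id_apply, ← algebraMap_smul B₀ c (φ _), ← map_smul,
          IsScalarTower.algebraMap_apply k (P₀ k π S.hπ).toExtension.Ring B₀, algebraMap_smul,
          ← map_smul]
        congr 2
        apply Subtype.ext
        change c • (x : (P₀ k π S.hπ).toExtension.Ring) = _
        rw [Algebra.smul_def]
        rfl }
  obtain ⟨g, hg⟩ := LinearMap.exists_extend f
  refine ⟨g, fun x => ?_⟩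
  have h1 := LinearMap.congr_fun hg
    ⟨(x : (P₀ k π S.hπ).toExtension.Ring), (Submodule.restrictScalars_mem k _ _).mpr x.2⟩
  exact h1

include S hN hX₀ in
/-- every linear map on the conormal module is the difference map of a `J`-compatible extension,
whose middle ring is flat over `C'` if that of the base point is. -/
theorem exists_ext_of_phi [Module.Flat C' X₀.E]
    (φ : (P₀ k π S.hπ).toExtension.Cotangent →ₗ[B₀] N) :
    ∃ (X : Ext C' B N) (hX : JCompat ι X) (t : (P' C' B).toExtension.Ring →ₐ[C'] X.E)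
      (ht : IsLift X t), S.phi0 ι hN hX₀ t₀ ht₀ hX t ht = φ ∧ Module.Flat C' X.E := by
  letI : Module (P' C' B).toExtension.Ring N :=
    Module.compHom N (algebraMap (P' C' B).toExtension.Ring B)
  haveI : IsScalarTower (P' C' B).toExtension.Ring B N := IsScalarTower.of_compHom _ B N
  let δ : RingHom.ker (algebraMap (P' C' B).toExtension.Ring B) →ₗ[(P' C' B).toExtension.Ring] N :=
    { toFun := fun x => del (P' C' B) X₀ t₀ ht₀ x + φ (S.κ x)
      map_add' := fun x y => by
        rw [del_add, S.κ_add, map_add]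
        abel
      map_smul' := fun r x => by
        rw [del_smul, S.factor_smul hN, RingHom.id_apply, ← smul_add]
        rfl }
  obtain ⟨X, t, ht, hδ⟩ := exists_ext_of_linearMap (A := C') δ
    (P' C' B).toExtension.algebraMap_surjective
  have hX : JCompat ι X := by
    refine S.jCompat_of_del ι t ht (fun j hj => ?_)
    have h1 := hδ ⟨cst C' B j, S.cst_mem_ker hj⟩
    change X.incl (del (P' C' B) X₀ t₀ ht₀ _ + φ (S.κ _)) = t (cst C' B j) at h1
    rw [S.del_cst ι hX₀ t₀ ht₀ j hj, S.κ_cst hj, map_zero, add_zero] at h1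
    exact h1
  have hdel : ∀ x : (P' C' B).toExtension.ker,
      del (P' C' B) X t ht x = del (P' C' B) X₀ t₀ ht₀ x + φ (S.κ x) := by
    intro x
    apply X.isExtension.incl_injective
    rw [incl_del]
    exact (hδ x).symm
  refine ⟨X, hX, t, ht, ?_, ?_⟩
  · apply S.factor_ext
    intro x
    rw [S.phi0_κ, hdel, add_sub_cancel_left]
  · obtain ⟨Φ₀, hΦ₀⟩ := S.exists_extend_phi φ
    let Φ : (P' C' B).toExtension.Ring →+ N :=
      Φ₀.toAddMonoidHom.comp (red k π S.hπ).toAddMonoidHom
    have hΦa : ∀ g, Φ g = Φ₀ (red k π S.hπ g) := fun g => rfl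
    have hΦ : ∀ (c : C') (g : (P' C' B).toExtension.Ring),
        Φ (c • g) = algebraMap C' B c • Φ g := by
      intro c g
      rw [hΦa, hΦa, hN, S.hcomp, algebraMap_smul, ← map_smul]
      congr 1
      rw [Algebra.smul_def, map_mul, Algebra.smul_def]
      congr 1
      exact red_cst k π S.hπ c
    obtain ⟨e⟩ := linearEquiv_of_del_eq X₀ X t₀ ht₀ t ht Φ hΦ (fun x => by
      rw [hdel, hΦa]
      congr 1
      exact (hΦ₀ (S.redK x)).symm)
    exact Module.Flat.of_linearEquiv e.symm

end Setup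

end Groth.Agent.H61.AffLift
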