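import Groth.Agent.H61.AffLift.OfExt
import Groth.Agent.H61.AffLift.Surj
import Groth.Agent.H61.DefAlg.GRing
import Groth.Agent.H61.DefAlg.Build
import Groth.Agent.H61.DefAlg.HomOfRing

set_option linter.style.haveILetI false
set_option linter.unusedSectionVars false
set_option autoImplicit false

/-!
# The abstract setting realised by a deformation of `Spec B₀`
-/

open AlgebraicGeometry CategoryTheory CategoryTheory.Limits Opposite TopologicalSpace

namespace Groth.Agent.H61.AffLift

universe u

open ArtFun ArtFun.Art TensorProduct Exal Groth.Agent.H61.DefAlg Groth.Agent.H61.AffThick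

variable {k : Type u} [Field k] {B₀ : Type u} [CommRing B₀] [Algebra k B₀] {C' C : Art k k}

/-- the coordinate ring of a deformation over `C`, regarded as a `C'`-algebra through `p`. -/
def BR (_p : C' ⟶ C) (𝒳 : DefSch (XB k B₀) (xB k B₀) C) : Type u := GRing 𝒳

variable (p : C' ⟶ C) (𝒳 : DefSch (XB k B₀) (xB k B₀) C)

instance : CommRing (BR p 𝒳) := inferInstanceAs (CommRing (GRing 𝒳))

noncomputable instance : Algebra C (BR p 𝒳) := inferInstanceAs (Algebra C (GRing 𝒳))

noncomputable instance : Algebra C' (BR p 𝒳) :=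
  ((algebraMap C (GRing 𝒳)).comp p.toAlgHom.toRingHom).toAlgebra

instance : Module.Flat C (BR p 𝒳) := inferInstanceAs (Module.Flat C (GRing 𝒳))

/-- the augmentation `B → B₀`. -/
noncomputable def πR : BR p 𝒳 →+* B₀ := (πAlg 𝒳).toRingHom

noncomputable instance : Module (BR p 𝒳) (B₀ ⊗[k] ↥(RingHom.ker p.toAlgHom)) :=
  Module.compHom _ (πR p 𝒳)

lemma BR.smul_def (b : BR p 𝒳) (n : B₀ ⊗[k] ↥(RingHom.ker p.toAlgHom)) :
    b • n = πR p 𝒳 b • n := rfl

lemma BR.algebraMap_eq (c : C') :
    algebraMap C' (BR p 𝒳) c = algebraMap C (BR p 𝒳) (p.toAlgHom c) := rfl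

lemma map_maximalIdeal (hp : Function.Surjective p) :
    (IsLocalRing.maximalIdeal C').map (p.toAlgHom : C' →+* C) = IsLocalRing.maximalIdeal C := by
  apply le_antisymm
  · rw [Ideal.map_le_iff_le_comap]
    intro c hc
    rw [Ideal.mem_comap, mem_maximalIdeal_iff]
    change C.res (p c) = 0
    rw [res_app, (mem_maximalIdeal_iff C' c).mp hc]
  · intro c hc
    obtain ⟨c', rfl⟩ := hp c
    refine Ideal.mem_map_of_mem _ ?_
    rw [mem_maximalIdeal_iff] at hc ⊢
    rw [← hc]
    exact (res_app p c').symm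

theorem setup (hp : IsSemismallExt p) : Setup p (πR p 𝒳) where
  hp := hp
  hB := fun _ => rfl
  hπ := πAlg_surjective 𝒳
  hker := by
    have h1 : RingHom.ker (πR p 𝒳) =
        (IsLocalRing.maximalIdeal C).map (algebraMap C (GRing 𝒳)) := ker_πAlg 𝒳
    rw [h1, ← map_maximalIdeal p hp.1, Ideal.map_map]
    rfl
  hcomp := fun c => by
    change πAlg 𝒳 (algebraMap C (GRing 𝒳) (p.toAlgHom c)) = _
    rw [πAlg_algebraMap]
    congr 1
    exact res_app p c
  flat := inferInstance

end Groth.Agent.H61.AffLift
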